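import Cfsg.Agent.H40.AutBase

/-!
The graph automorphism of the Chevalley group of type D4 with its action on every root element.
-/

set_option autoImplicit false

namespace Cfsg.Agent.H40

open Cfsg.Lie Cfsg.Agent.H37

/-- the permutation of the roots of type D4 induced by the symmetry of the diagram -/
def tauD4 (r : ℕ) : ℕ := [0, 1, 6, 2, 7, 10, 3, 8, 4, 9, 11, 5, 18, 12, 14, 19, 15, 20, 13, 16, 21, 17, 22, 23].getD r 0
/-- the signs of the graph automorphism of type D4 -/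
def gamD4 (r : ℕ) : ℤ := [1, 1, -1, 1, -1, 1, -1, 1, -1, 1, 1, 1, 1, 1, 1, -1, 1, -1, 1, -1, 1, -1, 1, 1].getD r 0
/-- intertwining matrix, positions -/
def rhoD4 (c : ℕ) : ℕ := [2, 1, 3, 0, 4, 5, 10, 6, 11, 14, 7, 12, 8, 13, 15, 9, 22, 16, 18, 23, 19, 24, 17, 20, 25, 21, 26, 27].getD c 0
/-- intertwining matrix, entries -/
def epsD4 (c : ℕ) : ℤ := [1, 1, 1, 1, 1, 1, -1, 1, -1, 1, -1, 1, -1, 1, 1, 1, 1, 1, 1, -1, 1, -1, 1, -1, 1, -1, 1, 1].getD c 0
/-- inverse intertwining matrix, positions -/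
def rhoiD4 (c : ℕ) : ℕ := [3, 1, 0, 2, 4, 5, 7, 10, 12, 15, 6, 8, 11, 13, 9, 14, 17, 22, 18, 20, 23, 25, 16, 19, 21, 24, 26, 27].getD c 0
/-- inverse intertwining matrix, entries -/
def epsiD4 (c : ℕ) : ℤ := [1, 1, 1, 1, 1, 1, 1, -1, -1, 1, -1, -1, 1, 1, 1, 1, 1, 1, 1, 1, -1, -1, 1, -1, -1, 1, 1, 1].getD c 0

theorem interD4 : (List.range 24).all (fun r => (List.range 28).all fun c =>
    interCol chevD4 0 rhoD4 epsD4 r (tauD4 r) (gamD4 r) 1 c) = true := by decide +kernel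

theorem exists_aut_D4 (K : Type*) [Field K] :
    ∃ α : chevD4.group K ≃* chevD4.group K, ∀ (g : chevD4.group K) (r : ℕ) (t : K), r < 24 →
      ((g : GL chevD4.Idx K) : Matrix chevD4.Idx chevD4.Idx K) = chevD4.x K r t →
      ((α g : GL chevD4.Idx K) : Matrix chevD4.Idx chevD4.Idx K) =
        chevD4.x K (tauD4 r) (gamD4 r * t) :=
  exists_aut_perm isChev_D4 rhoD4 rhoiD4 epsD4 epsiD4 tauD4 gamD4
    (show ∀ c < 28, rhoiD4 c < 28 ∧ rhoD4 (rhoiD4 c) = c ∧ epsD4 (rhoiD4 c) * epsiD4 c = 1 by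
      decide +kernel)
    (show ∀ r < 24, tauD4 r < 24 ∧ gamD4 r * gamD4 r = 1 ∧ ∃ r' < 24, tauD4 r' = r by
      decide +kernel)
    (fun r hr => all_range (all_range interD4 r hr))

end Cfsg.Agent.H40
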