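import Cfsg.Agent.H40.AutBase

/-!
The graph automorphism of the Chevalley group of type E6 with its action on every root element.
-/

set_option autoImplicit false

namespace Cfsg.Agent.H40

open Cfsg.Lie Cfsg.Agent.H37

/-- the permutation of the roots of type E6 induced by the symmetry of the diagram -/
def tauE6 (r : ℕ) : ℕ := [0, 1, 2, 5, 16, 3, 6, 17, 8, 19, 22, 11, 26, 30, 33, 35, 4, 7, 18, 9, 20, 23, 10, 21, 24, 25, 12, 27, 31, 34, 13, 28, 32, 14, 29, 15, 56, 42, 57, 39, 43, 58, 37, 40, 44, 59, 46, 47, 50, 61, 48, 51, 62, 53, 64, 67, 36, 38, 41, 45, 60, 49, 52, 63, 54, 65, 68, 55, 66, 69, 70, 71].getD r 0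
/-- the signs of the graph automorphism of type E6 -/
def gamE6 (r : ℕ) : ℤ := [1, 1, 1, 1, -1, 1, 1, -1, 1, -1, -1, 1, -1, 1, -1, 1, -1, -1, 1, -1, 1, 1, -1, 1, 1, 1, -1, 1, -1, 1, 1, -1, 1, -1, 1, 1, 1, 1, -1, 1, -1, 1, 1, -1, 1, -1, 1, 1, 1, -1, 1, 1, -1, 1, -1, -1, 1, -1, 1, -1, 1, -1, -1, 1, -1, 1, 1, -1, 1, 1, 1, 1].getD r 0
/-- intertwining matrix, positions -/
def rhoE6 (c : ℕ) : ℕ := [5, 1, 4, 3, 2, 0, 6, 7, 8, 11, 22, 9, 12, 23, 14, 25, 28, 17, 32, 36, 39, 41, 10, 13, 24, 15, 26, 29, 16, 27, 30, 31, 18, 33, 37, 40, 19, 34, 38, 20, 35, 21, 62, 48, 63, 45, 49, 64, 43, 46, 50, 65, 52, 53, 56, 67, 54, 57, 68, 59, 70, 73, 42, 44, 47, 51, 66, 55, 58, 69, 60, 71, 74, 61, 72, 75, 76, 77].getD c 0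
/-- intertwining matrix, entries -/
def epsE6 (c : ℕ) : ℤ := [1, 1, 1, 1, 1, 1, 1, 1, 1, 1, -1, 1, 1, -1, 1, -1, -1, 1, -1, 1, -1, 1, -1, -1, 1, -1, 1, 1, -1, 1, 1, 1, -1, 1, -1, 1, 1, -1, 1, -1, 1, 1, 1, 1, -1, 1, -1, 1, 1, -1, 1, -1, 1, 1, 1, -1, 1, 1, -1, 1, -1, -1, 1, -1, 1, -1, 1, -1, -1, 1, -1, 1, 1, -1, 1, 1, 1, 1].getD c 0
/-- inverse intertwining matrix, positions -/
def rhoiE6 (c : ℕ) : ℕ := [5, 1, 4, 3, 2, 0, 6, 7, 8, 11, 22, 9, 12, 23, 14, 25, 28, 17, 32, 36, 39, 41, 10, 13, 24, 15, 26, 29, 16, 27, 30, 31, 18, 33, 37, 40, 19, 34, 38, 20, 35, 21, 62, 48, 63, 45, 49, 64, 43, 46, 50, 65, 52, 53, 56, 67, 54, 57, 68, 59, 70, 73, 42, 44, 47, 51, 66, 55, 58, 69, 60, 71, 74, 61, 72, 75, 76, 77].getD c 0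
/-- inverse intertwining matrix, entries -/
def epsiE6 (c : ℕ) : ℤ := [1, 1, 1, 1, 1, 1, 1, 1, 1, 1, -1, 1, 1, -1, 1, -1, -1, 1, -1, 1, -1, 1, -1, -1, 1, -1, 1, 1, -1, 1, 1, 1, -1, 1, -1, 1, 1, -1, 1, -1, 1, 1, 1, 1, -1, 1, -1, 1, 1, -1, 1, -1, 1, 1, 1, -1, 1, 1, -1, 1, -1, -1, 1, -1, 1, -1, 1, -1, -1, 1, -1, 1, 1, -1, 1, 1, 1, 1].getD c 0

theorem interE6 : (List.range 72).all (fun r => (List.range 78).all fun c =>
    interCol chevE6 0 rhoE6 epsE6 r (tauE6 r) (gamE6 r) 1 c) = true := by decide +kernel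

theorem exists_aut_E6 (K : Type*) [Field K] :
    ∃ α : chevE6.group K ≃* chevE6.group K, ∀ (g : chevE6.group K) (r : ℕ) (t : K), r < 72 →
      ((g : GL chevE6.Idx K) : Matrix chevE6.Idx chevE6.Idx K) = chevE6.x K r t →
      ((α g : GL chevE6.Idx K) : Matrix chevE6.Idx chevE6.Idx K) =
        chevE6.x K (tauE6 r) (gamE6 r * t) :=
  exists_aut_perm isChev_E6 rhoE6 rhoiE6 epsE6 epsiE6 tauE6 gamE6
    (show ∀ c < 78, rhoiE6 c < 78 ∧ rhoE6 (rhoiE6 c) = c ∧ epsE6 (rhoiE6 c) * epsiE6 c = 1 by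
      decide +kernel)
    (show ∀ r < 72, tauE6 r < 72 ∧ gamE6 r * gamE6 r = 1 ∧ ∃ r' < 72, tauE6 r' = r by
      decide +kernel)
    (fun r hr => all_range (all_range interE6 r hr))

end Cfsg.Agent.H40
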