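import Cfsg.Agent.H40.Lev4

/-!
Collection of words in root elements with polynomial coefficients.
-/

set_option autoImplicit false
set_option linter.unusedSectionVars false

namespace Cfsg.Agent.H40

open Cfsg.Lie Cfsg.Agent.H37 Cfsg.Agent.H37.Chev
open scoped commutatorElement

/-- insert the terms of a commutator -/
noncomputable def cfold (p : ℤ) (g : ℕ → Pol → PVec → PVec) (t u : Pol) (v : PVec) (l : List (ℕ × ℤ × ℕ × ℕ)) : PVec :=
  List.rec v (fun c _ acc => forceN c.1 fun k => forceP (pscale p 1 c.2.1 (pmul p (ppow p t c.2.2.1)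
    (ppow p u c.2.2.2))) fun Q => forceV acc fun acc => List.rec (motive := fun _ => PVec) acc
      (fun _ _ _ => g k Q acc) Q) l

/-- one step of the insertion of a letter -/
noncomputable def cstep (D : ChevalleyDatum) (p : ℤ) (g : ℕ → Pol → PVec → PVec) (r : ℕ) (t : Pol) (w : PVec) : PVec :=
  List.rec (motive := fun _ => PVec) [(r, t)] (fun e w' _ => Bool.rec (Bool.rec (Bool.rec
    (e :: forceV (g r t w') fun v => cfold p g t e.2 v (D.commTerms r e.1)) ((r, t) :: w) (Nat.beq e.1 (D.neg r)))
    (forceP (padd p t e.2) fun Q => vcons r Q w') (Nat.beq r e.1)) ((r, t) :: w) (Nat.blt r e.1)) w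

/-- insert a letter in a collected word -/
noncomputable def cins (D : ChevalleyDatum) (p : ℤ) (f : ℕ) : ℕ → Pol → PVec → PVec :=
  Nat.rec (fun r t w => (r, t) :: w) (fun _ ih => cstep D p ih) f

/-- collect a word -/
noncomputable def collect (D : ChevalleyDatum) (p : ℤ) (w : PVec) : PVec :=
  List.rec [] (fun e _ acc => forceV acc fun acc =>
    List.rec (motive := fun _ => PVec) acc (fun _ _ _ => cins D p 100 e.1 e.2 acc) e.2) w

/-- check that two words have the same collected form -/
noncomputable def ccheck (D : ChevalleyDatum) (p : ℤ) (w₁ w₂ : List (ℕ × PE)) : Bool :=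
  ((w₁ ++ w₂).all fun e => Nat.blt e.1 D.nroots) && wPol p w₁ fun a => wPol p w₂ fun b =>
    collect D p a == collect D p b

section
variable {D : ChevalleyDatum} [Chev D] {F G : Type*} [Field F] [Group G] (S : StRel D F G) {p : ℤ} (hp : (p : F) = 0)
  (x : ℕ → F)

/-- value of a word with polynomial coefficients -/
noncomputable def gP (w : PVec) : G := gword S.x (w.map fun e => (e.1, evP x e.2))

theorem gP_cons (e : ℕ × Pol) (w : PVec) : gP S x (e :: w) = S.x e.1 (evP x e.2) * gP S x w := gword_cons _ _ _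

theorem gP_vcons {r : ℕ} (hr : r < D.nroots) (t : Pol) (w : PVec) :
    gP S x (vcons r t w) = S.x r (evP x t) * gP S x w := by
  cases t with
  | nil => rw [evP_nil, x_zero S hr, one_mul]; rfl
  | cons e l => exact gP_cons S x _ _

include hp

theorem gP_cfold {g : ℕ → Pol → PVec → PVec}
    (hg : ∀ r < D.nroots, ∀ t w, gP S x (g r t w) = S.x r (evP x t) * gP S x w) (t u : Pol) (v : PVec)
    {l : List (ℕ × ℤ × ℕ × ℕ)} (hl : ∀ c ∈ l, c.1 < D.nroots) : gP S x (cfold p g t u v l) =
      gword S.x (l.map fun c => (c.1, (c.2.1 : F) * (- -evP x t) ^ c.2.2.1 * evP x u ^ c.2.2.2)) * gP S x v := by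
  induction l with
  | nil => exact (one_mul _).symm
  | cons c l ih =>
    have h7 := hl c List.mem_cons_self
    rw [List.map_cons, gword_cons, mul_assoc, ← ih fun c hc => hl c (List.mem_cons_of_mem _ hc)]
    have h8 : (c.2.1 : F) * (- -evP x t) ^ c.2.2.1 * evP x u ^ c.2.2.2 = evP x
        (pscale p 1 c.2.1 (pmul p (ppow p t c.2.2.1) (ppow p u c.2.2.2))) := by
      rw [evP_pscale x hp, evP_pmul x hp, evP_ppow x hp, evP_ppow x hp, evM_one]; ring
    simp only [h8, cfold, forceV_eq, forceN_eq, forceP_eq]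
    generalize pscale p 1 c.2.1 (pmul p (ppow p t c.2.2.1) (ppow p u c.2.2.2)) = Q
    cases Q with
    | nil => rw [evP_nil, x_zero S h7, one_mul]
    | cons a Q => exact hg _ h7 _ _

theorem gP_cins (f : ℕ) : ∀ r < D.nroots, ∀ t w, gP S x (cins D p f r t w) = S.x r (evP x t) * gP S x w := by
  induction f with
  | zero => exact fun r _ t w => gP_cons S x _ _
  | succ f ih =>
    intro r hr t w
    change gP S x (cstep D p (cins D p f) r t w) = _
    cases w with
    | nil => exact gP_cons S x _ _
    | cons e w =>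
      simp only [cstep, forceV_eq, forceP_eq]
      cases h1 : Nat.blt r e.1 with
      | true => exact gP_cons S x _ _
      | false =>
        cases h2 : Nat.beq r e.1 with
        | true => rw [gP_vcons S x hr, evP_padd x hp, gP_cons, ← Nat.eq_of_beq_eq_true h2, ← mul_assoc, S.x_add r hr]
        | false =>
          cases h3 : Nat.beq e.1 (D.neg r) with
          | true => exact gP_cons S x _ _
          | false =>
            have h4 : e.1 < D.nroots := lt_of_le_of_lt (by simpa [← Bool.not_eq_true, Nat.blt_eq] using h1) hr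
            rw [gP_cons, gP_cons, ← mul_assoc, mul_inv_eq_iff_eq_mul.1 (x_comm' S hr h4
              (Ne.symm (Nat.ne_of_beq_eq_false h2)) (Nat.ne_of_beq_eq_false h3) (evP x t) (evP x e.2)),
              gP_cfold S hp x ih _ _ _ fun c hc => (commTerms_sound hr h4 hc).1, ih r hr, mul_assoc, mul_assoc]
            rfl

theorem gP_collect {w : PVec} (hw : ∀ e ∈ w, e.1 < D.nroots) : gP S x (collect D p w) = gP S x w := by
  induction w with
  | nil => rfl
  | cons e w ih =>
    have h1 := hw e List.mem_cons_self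
    rw [gP_cons, ← ih fun e he => hw e (List.mem_cons_of_mem _ he)]
    obtain ⟨r, t⟩ := e
    simp only [collect, forceV_eq]
    cases t with
    | nil => rw [evP_nil, x_zero S h1, one_mul]
    | cons a t => exact gP_cins S hp x _ _ h1 _ _

theorem gword_eq_of_cc {w₁ w₂ : List (ℕ × PE)} (h : ccheck D p w₁ w₂ = true) (v : List F) :
    gword S.x (evW v w₁) = gword S.x (evW v w₂) := by
  simp only [ccheck, wPol_eq, Bool.and_eq_true, List.all_eq_true, Nat.blt_eq, List.mem_append, beq_iff_eq] at h
  have h1 : ∀ w : List (ℕ × PE), (∀ e ∈ w, e.1 < D.nroots) → gword S.x (evW v w) =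
      gP S (primeVal v) (collect D p (w.map fun e => (e.1, e.2.toPol p))) := fun w hw => by
    rw [gP_collect S hp _ (List.forall_mem_map.2 hw), gP, List.map_map]
    simp only [evW, Function.comp_def, evP_toPol hp]
  rw [h1 _ fun e he => h.1 e (Or.inl he), h1 _ fun e he => h.1 e (Or.inr he), h.2]

theorem comm_of_cc {a b c : List (ℕ × PE)} (h : ccheck D p (a ++ b) (c ++ (b ++ a)) = true) (v : List F) :
    ⁅gword S.x (evW v a), gword S.x (evW v b)⁆ = gword S.x (evW v c) := by
  have := gword_eq_of_cc S hp h v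
  simp only [evW_append, gword_append] at this
  rw [commutatorElement_def, this]
  group

end

namespace TwD

variable {D : ChevalleyDatum} [Chev D] {hD : IsChev D} {F : Type*} [Field F] {I : Type} {C : TwC D I}
  (T : TwD (matRel hD F) C) {Os : List (List ℕ)} (hL : LevOK C 2 Os) (hp : ((2 : ℤ) : F) = 0)
include hL hp

theorem w1_mem' {L : List ℕ} {k : ℕ} (h : (∀ r ∈ L, r ∈ lk Os k) ∧ ccheck D 2 (w1 (L.map C.τ)) (w1 L) = true)
    (v : List F) : gword (matRel hD F).x (evW v (w1 L)) ∈ (T.filt hL hp).V k := by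
  refine T.word_mem_filt hL hp (by simpa [evW_fst, w1] using h.1) ?_
  rw [T.word_mem_Fix (by simpa [evW_fst, w1] using fun r hr => hL.lt (h.1 r hr)), ← gword_eq_of_cc _ hp h.2 v]
  simp only [evW, w1, List.map_map]
  refine congrArg _ (List.map_congr_left fun r hr => ?_)
  have h1 : (C.γ r : F) = 1 := by
    rcases Int.eq_one_or_neg_one_of_mul_eq_one (C.γ_sq r (hL.lt (h.1 r hr))) with e | e <;> rw [e]
    · exact Int.cast_one
    · rw [Int.cast_neg, Int.cast_one]; linear_combination -hp
  simp [PE.eval, h1]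

/-- an element of the derived group with a given leading coefficient -/
theorem der_of_cc {k : ℕ} (hk : k < Os.length) {a b c : List (ℕ × PE)} {e : PE} (v : List F)
    (ha : gword (matRel hD F).x (evW v a) ∈ (T.filt hL hp).V 0)
    (hb : gword (matRel hD F).x (evW v b) ∈ (T.filt hL hp).V 0)
    (h : ccheck D 2 (a ++ b) (c ++ (b ++ a)) = true ∧ (∀ s ∈ c.map Prod.fst, s ∈ lk Os k) ∧
      c.filter (fun a => (ok Os k).headI = a.1) = [((ok Os k).headI, e)]) :
    ∃ x ∈ ⁅(T.filt hL hp).V 0, (T.filt hL hp).V 0⁆, x ∈ (T.filt hL hp).V k ∧ (T.filt hL hp).κ k x = e.eval v := by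
  have h1 := comm_of_cc (matRel hD F) hp h.1 v
  refine ⟨_, h1 ▸ Subgroup.commutator_mem_commutator ha hb, T.word_mem_filt hL hp (by rw [evW_fst]; exact h.2.1) ?_,
    T.κ_evW hL hp hk h.2.1 v h.2.2⟩
  exact h1 ▸ ((T.filt hL hp).comm 0 _ ha _ hb).2

end TwD

end Cfsg.Agent.H40
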