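import Cfsg.Agent.H40.Cc
import Cfsg.Agent.H40.F4b

/-!
Central extensions of the large Ree groups: data for the unipotent part.
-/

set_option autoImplicit false

namespace Cfsg.Agent.H40

open Cfsg.Lie Cfsg.Agent.H37 PE
open scoped commutatorElement

/-- the orbits of positive roots -/
def OsF4 : List (List ℕ) := [[33, 24], [27, 25], [34, 26], [28, 30], [29, 41], [35, 31], [37, 32], [36, 42], [38, 43],
  [39, 45], [40, 46], [44, 47]]

theorem levF4 : LevOK CF4 2 OsF4 := by decide +kernel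

/-- exponents of the character of level `k` on a twisted cocharacter -/
def exF (v : ℤ × ℤ × ℤ × ℤ) (k : ℕ) : ℤ × ℤ :=
  (pa chevF4 (fun i => [v.1, v.2.2.1, 2 * v.2.2.2, 2 * v.2.1].getD i 0) (ok OsF4 k).headI,
    pa chevF4 (fun i => [v.2.1, v.2.2.2, v.2.2.1, v.1].getD i 0) (ok OsF4 k).headI)

/-- cocharacters acting as scalars -/
def scF (k : ℕ) : ℤ × ℤ × ℤ × ℤ := [(0, 0, -1, 0), (-1, 0, 0, 0), (1, 0, 0, 0), (-1, 0, -1, 0), (1, 1, 0, 0),
  (-1, -1, 0, 0), (0, 0, 1, 0), (0, 0, -1, 0), (0, 0, -1, -1), (0, 0, 1, 1), (-1, 0, 0, 0), (1, 0, 0, 0)].getD k 0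

/-- pairs of fixed words and their commutator -/
def drF (k : ℕ) : List ℕ × List ℕ × List ℕ := [default, default,
  ([33, 24], [27, 25, 28], [34, 26, 35, 31, 37, 32, 36, 38, 43, 39, 45, 46, 44]), default,
  ([33, 24], [28, 30], [29, 41, 35, 31, 37, 32, 36, 42, 38, 43, 39, 45, 40, 47]), default,
  ([27, 25, 28], [29, 41, 35, 31, 37, 32, 36, 42, 38, 43, 39, 45, 40, 47], [37, 32, 38, 43, 40, 46]),
  ([33, 24], [34, 26, 35, 31, 37, 32, 36, 38, 43, 39, 45, 46, 44], [36, 42, 39, 45, 44, 47]),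
  ([33, 24], [37, 32, 38, 43, 40, 46], [38, 43, 39, 45, 44, 47]),
  ([28, 30], [29, 41, 35, 31, 37, 32, 36, 42, 38, 43, 39, 45, 40, 47], [39, 45, 44, 47]),
  ([28, 30], [37, 32, 38, 43, 40, 46], [40, 46]), ([33, 24], [40, 46], [44, 47])].getD k default

theorem fixF : ∀ L ∈ [[33, 24], [27, 25, 28], [28, 30], [34, 26, 35, 31, 37, 32, 36, 38, 43, 39, 45, 46, 44],
    [29, 41, 35, 31, 37, 32, 36, 42, 38, 43, 39, 45, 40, 47], [37, 32, 38, 43, 40, 46], [40, 46]],
    (∀ r ∈ L, r ∈ lk OsF4 0) ∧ ccheck chevF4 2 (w1 (L.map CF4.τ)) (w1 L) = true := by decide +kernel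

theorem drF_ok : ∀ k ∈ [2, 4, 6, 7, 8, 9, 10, 11], ccheck chevF4 2 (w1 (drF k).1 ++ w1 (drF k).2.1)
    (w1 (drF k).2.2 ++ (w1 (drF k).2.1 ++ w1 (drF k).1)) = true ∧ (∀ s ∈ (w1 (drF k).2.2).map Prod.fst, s ∈ lk OsF4 k) ∧
      (w1 (drF k).2.2).filter (fun a => (ok OsF4 k).headI = a.1) = [((ok OsF4 k).headI, one)] := by decide +kernel

/-- a commutator of level four -/
def cF1 : List (ℕ × PE) :=
  [(29, var 1), (41, pow (var 0) 2), (35, var 0), (31, var 1), (37, var 0), (32, var 1), (36, mul (var 0) (var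
    1)), (42, mul (pow (var 0) 2) (var 1)), (38, mul (var 0) (var 1)), (43, mul (pow (var 0) 2) (var 1)), (39,
    mul (var 0) (var 1)), (45, mul (pow (var 0) 2) (var 1)), (40, mul (var 0) (var 1)), (47, mul (pow (var 0) 2)
    (pow (var 1) 2))]

/-- a second commutator of level four -/
def cF2 : List (ℕ × PE) :=
  [(29, var 1), (41, pow (var 0) 2), (35, var 1), (31, pow (var 0) 2), (37, pow (var 0) 2), (32, pow (var 1) 2),
    (36, var 1), (42, pow (var 0) 2), (38, pow (var 0) 2), (43, pow (var 1) 2), (39, pow (var 1) 2), (45, pow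
    (var 0) 4), (40, mul (pow (var 0) 2) (var 1)), (47, mul (pow (var 0) 2) (pow (var 1) 2))]

/-- their product -/
def cF3 : List (ℕ × PE) :=
  [(35, add (var 0) (var 1)), (31, add (pow (var 0) 2) (var 1)), (37, add (var 0) (pow (var 0) 2)), (32, add
    (var 1) (pow (var 1) 2)), (36, add (mul (var 0) (var 1)) (var 1)), (42, add (pow (var 0) 2) (mul (pow (var
    0) 2) (var 1))), (38, add (mul (var 0) (var 1)) (pow (var 0) 2)), (43, add (mul (pow (var 0) 2) (var 1))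
    (pow (var 1) 2)), (39, pow (var 1) 2), (45, pow (var 0) 4), (40, add (mul (pow (var 0) 2) (var 1)) (pow (var
    1) 2)), (46, add (mul (pow (var 0) 2) (var 1)) (pow (var 1) 3)), (44, add (add (mul (var 0) (pow (var 1) 2))
    (mul (pow (var 0) 2) (var 1))) (mul (pow (var 0) 3) (var 1))), (47, add (add (mul (pow (var 0) 2) (pow (var
    1) 2)) (mul (pow (var 0) 2) (pow (var 1) 3))) (mul (pow (var 0) 4) (var 1)))]

theorem cF1_ok : ccheck chevF4 2 ([(33, var 0), (24, var 1)] ++ w1 [28, 30])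
    (cF1 ++ (w1 [28, 30] ++ [(33, var 0), (24, var 1)])) = true := by decide +kernel

theorem cF2_ok : ccheck chevF4 2 (w1 [33, 24] ++ w4 zero zero (var 1) (pow (var 0) 2))
    (cF2 ++ (w4 zero zero (var 1) (pow (var 0) 2) ++ w1 [33, 24])) = true := by decide +kernel

theorem cF3_ok : ccheck chevF4 2 (cF1 ++ cF2) cF3 = true := by decide +kernel

end Cfsg.Agent.H40
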